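import Mathlib.Algebra.BigOperators.Ring.Finset
import Mathlib.Algebra.Order.BigOperators.Group.Finset
import Mathlib.Data.Fintype.Card
import Mathlib.Tactic

/-!
# Integral configurations of small norm

The possible multiplicity vectors of the induced generalized characters in the problem of an
involution centralizer `GL₂(3)`, and the resulting equations between three degrees.
-/

set_option autoImplicit false

namespace CfsgLib.GLTwoThree

variable {ι : Type*} [Fintype ι] [DecidableEq ι]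

/-- The support of an integral vector of norm at most three. -/
theorem exists_support {f : ι → ℤ} {n : ℕ} (hn : n ≤ 3) (h : ∑ i, f i * f i = n) :
    ∃ S : Finset ι, S.card = n ∧ (∀ i ∈ S, f i = 1 ∨ f i = -1) ∧ ∀ i ∉ S, f i = 0 := by
  have h1 : ∀ i, f i = 0 ∨ f i = 1 ∨ f i = -1 := by
    intro i
    have h2 : f i * f i ≤ ∑ j, f j * f j :=
      Finset.single_le_sum (f := fun j => f j * f j) (fun j _ => mul_self_nonneg _)
        (Finset.mem_univ i)
    rw [h] at h2
    have h3 : f i * f i ≤ 3 := h2.trans (by exact_mod_cast hn)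
    have h4 : -1 ≤ f i ∧ f i ≤ 1 := by constructor <;> nlinarith
    omega
  refine ⟨Finset.univ.filter fun i => f i ≠ 0, ?_, fun i hi => ?_, fun i hi => by simpa using hi⟩
  · have h2 : ∑ i, f i * f i = ∑ i, if f i ≠ 0 then (1 : ℤ) else 0 := Finset.sum_congr rfl fun i _ => by
      rcases h1 i with e | e | e <;> simp [e]
    rw [h2, Finset.sum_boole] at h
    exact_mod_cast h
  · exact (h1 i).resolve_left (by simpa using hi)

/-- A vector of norm three with a fixed entry one. -/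
theorem exists_triple {f : ι → ℤ} {o : ι} (h : ∑ i, f i * f i = 3) (ho : f o = 1) :
    ∃ A B : ι, A ≠ o ∧ B ≠ o ∧ A ≠ B ∧ (f A = 1 ∨ f A = -1) ∧ (f B = 1 ∨ f B = -1) ∧
      ∀ (R : Type) [CommRing R] (k : ι → R),
        ∑ i, (f i : R) * k i = k o + (f A : R) * k A + (f B : R) * k B := by
  obtain ⟨S, hS, hpm, h0⟩ := exists_support (n := 3) le_rfl (by simpa using h)
  have hoS : o ∈ S := by
    by_contra hc
    rw [h0 o hc] at ho
    exact zero_ne_one ho
  have hc : (S.erase o).card = 2 := by rw [Finset.card_erase_of_mem hoS, hS]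
  obtain ⟨A, B, hAB, hE⟩ := Finset.card_eq_two.1 hc
  have hA : A ∈ S.erase o := by rw [hE]; simp
  have hB : B ∈ S.erase o := by rw [hE]; simp
  refine ⟨A, B, Finset.ne_of_mem_erase hA, Finset.ne_of_mem_erase hB, hAB,
    hpm A (Finset.mem_of_mem_erase hA), hpm B (Finset.mem_of_mem_erase hB), fun R _ k => ?_⟩
  rw [← Finset.sum_subset (Finset.subset_univ S) (fun i _ hi => by rw [h0 i hi, Int.cast_zero, zero_mul]),
    ← Finset.insert_erase hoS, hE, Finset.sum_insert (by simp [Finset.ne_of_mem_erase hA, (Finset.ne_of_mem_erase hA).symm, (Finset.ne_of_mem_erase hB).symm]),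
    Finset.sum_pair hAB, ho, Int.cast_one, one_mul]
  ring

/-- A vector of norm three containing a given point, without the fixed point. -/
theorem exists_triple' {f : ι → ℤ} {A : ι} (h : ∑ i, f i * f i = 3) (hA : f A ≠ 0) :
    ∃ D E : ι, D ≠ A ∧ E ≠ A ∧ D ≠ E ∧ (f D = 1 ∨ f D = -1) ∧ (f E = 1 ∨ f E = -1) ∧
      ∀ (R : Type) [CommRing R] (k : ι → R),
        ∑ i, (f i : R) * k i = (f A : R) * k A + (f D : R) * k D + (f E : R) * k E := by
  obtain ⟨S, hS, hpm, h0⟩ := exists_support (n := 3) le_rfl (by simpa using h)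
  have hAS : A ∈ S := by
    by_contra hc
    exact hA (h0 A hc)
  have hc : (S.erase A).card = 2 := by rw [Finset.card_erase_of_mem hAS, hS]
  obtain ⟨D, E, hDE, hE⟩ := Finset.card_eq_two.1 hc
  have hD : D ∈ S.erase A := by rw [hE]; simp
  have hE' : E ∈ S.erase A := by rw [hE]; simp
  refine ⟨D, E, Finset.ne_of_mem_erase hD, Finset.ne_of_mem_erase hE', hDE,
    hpm D (Finset.mem_of_mem_erase hD), hpm E (Finset.mem_of_mem_erase hE'), fun R _ k => ?_⟩
  rw [← Finset.sum_subset (Finset.subset_univ S) (fun i _ hi => by rw [h0 i hi, Int.cast_zero, zero_mul]),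
    ← Finset.insert_erase hAS, hE, Finset.sum_insert (by simp [(Finset.ne_of_mem_erase hD).symm, (Finset.ne_of_mem_erase hE').symm]),
    Finset.sum_pair hDE]
  ring

/-- A vector of norm two. -/
theorem exists_pair {f : ι → ℤ} (h : ∑ i, f i * f i = 2) :
    ∃ p q : ι, p ≠ q ∧ (f p = 1 ∨ f p = -1) ∧ (f q = 1 ∨ f q = -1) ∧ ∀ i, f i ≠ 0 → i = p ∨ i = q := by
  obtain ⟨S, hS, hpm, h0⟩ := exists_support (n := 2) (by norm_num) (by simpa using h)
  obtain ⟨p, q, hpq, rfl⟩ := Finset.card_eq_two.1 hS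
  refine ⟨p, q, hpq, hpm p (by simp), hpm q (by simp), fun i hi => ?_⟩
  by_contra hc
  exact hi (h0 i (by simpa using hc))

theorem sign_split {x y s t : ℤ} (hx : x = 1 ∨ x = -1) (hy : y = 1 ∨ y = -1)
    (hs : s = 1 ∨ s = -1) (ht : t = 0 ∨ t = 1 ∨ t = -1) (h : x * s + y * t = 1) : t = 0 ∧ s = x := by
  rcases hx with rfl | rfl <;> rcases hy with rfl | rfl <;> rcases hs with rfl | rfl <;>
    rcases ht with rfl | rfl | rfl <;> simp at h ⊢

theorem sign_split' {x y s t : ℤ} (hx : x = 1 ∨ x = -1) (hy : y = 1 ∨ y = -1)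
    (hs : s = 1 ∨ s = -1) (ht : t = 0 ∨ t = 1 ∨ t = -1) (h : x * s + y * t = -1) :
    t = 0 ∧ s = -x := by
  rcases hx with rfl | rfl <;> rcases hy with rfl | rfl <;> rcases hs with rfl | rfl <;>
    rcases ht with rfl | rfl | rfl <;> simp at h ⊢

set_option maxHeartbeats 2000000 in
/-- The equations, with constituents attaining the degrees. -/
theorem degree_equations' (o : ι) (b g h u v d : ι → ℤ)
    (hbb : ∑ i, b i * b i = 3) (hgg : ∑ i, g i * g i = 3) (hhh : ∑ i, h i * h i = 3)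
    (huu : ∑ i, u i * u i = 2) (hvv : ∑ i, v i * v i = 2)
    (hbg : ∑ i, b i * g i = 1) (hbh : ∑ i, b i * h i = 1) (hgh : ∑ i, g i * h i = -1)
    (hbu : ∑ i, b i * u i = 0) (hbv : ∑ i, b i * v i = 0)
    (hgu : ∑ i, g i * u i = 0) (hgv : ∑ i, g i * v i = 0)
    (hhu : ∑ i, h i * u i = 1) (hhv : ∑ i, h i * v i = 1) (huv : ∑ i, u i * v i = 1)
    (hbo : b o = 1) (hgo : g o = 0) (hho : h o = 1) (huo : u o = 0) (hvo : v o = 0)
    (hd1 : d o = 1) (hd : ∀ i, i ≠ o → 2 ≤ d i)
    (hbd : ∑ i, b i * d i = 0) (hgd : ∑ i, g i * d i = 0) (hhd : ∑ i, h i * d i = 0)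
    (hud0 : ∑ i, u i * d i = 0) (hvd0 : ∑ i, v i * d i = 0)
    (z : ι → ℤ) (hz : ∀ i, z i = 2 * u i + 2 * v i + 3 * b i + g i - 2 * h i) :
    ∃ a c e f : ℤ, a + c = -1 ∧ a + e + f = 0 ∧ a ≠ 0 ∧ c ≠ 0 ∧ e ≠ 0 ∧ f ≠ 0 ∧ f ≠ 1 ∧ f ≠ -1 ∧
      ∑ i, (b i : ℚ) * ((z i : ℚ) ^ 2 / d i) = 1 + 16 / a + 9 / c ∧
      ∑ i, (g i : ℚ) * ((z i : ℚ) ^ 2 / d i) = 16 / a + 9 / e + 1 / f ∧
      ∃ i j : ι, i ≠ o ∧ j ≠ o ∧ b i ≠ 0 ∧ g j ≠ 0 ∧ (a = d i ∨ a = -d i) ∧ (e = d j ∨ e = -d j) := by
  obtain ⟨A, B, hAo, hBo, hAB, hbA, hbB, sb⟩ := exists_triple hbb hbo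
  have sb' := fun k => sb ℤ k
  simp only [Int.cast_id] at sb'
  have dA := hd A hAo
  have dB := hd B hBo
  have db : d o + b A * d A + b B * d B = 0 := by rw [← sb' d]; exact hbd
  rw [hd1] at db
  -- the common constituent of `b` and `g`
  have gA : g o + b A * g A + b B * g B = 1 := by rw [← sb' g]; exact hbg
  rw [hgo, zero_add] at gA
  have g01 : ∀ i, g i = 0 ∨ g i = 1 ∨ g i = -1 := fun i => by
    obtain ⟨S, -, hpm, h0⟩ := exists_support (n := 3) le_rfl (f := g) (by simpa using hgg)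
    by_cases hi : i ∈ S
    · exact Or.inr (hpm i hi)
    · exact Or.inl (h0 i hi)
  wlog hA1 : g A ≠ 0 generalizing A B
  · have hA0 : g A = 0 := not_not.1 hA1
    refine this B A hBo hAo hAB.symm hbB hbA (fun R _ k => by rw [sb R k]; ring)
      (fun k => by rw [sb' k]; ring) dB dA (by linarith) (by linarith) ?_
    intro hB0
    rw [hA0, hB0] at gA
    simp at gA
  have gB : g B = 0 ∧ g A = b A :=
    sign_split hbA hbB ((g01 A).resolve_left hA1) (g01 B) gA
  obtain ⟨gB0, gAb⟩ := gB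
  obtain ⟨D, E, hDA, hEA, hDE, hgD, hgE, sg⟩ := exists_triple' hgg hA1
  have sg' := fun k => sg ℤ k
  simp only [Int.cast_id] at sg'
  have hne : ∀ {i : ι}, (g i = 1 ∨ g i = -1) → i ≠ o ∧ i ≠ B := fun {i} hi =>
    ⟨fun e => by rw [e, hgo] at hi; omega, fun e => by rw [e, gB0] at hi; omega⟩
  -- `h` avoids `A` and `B`
  obtain ⟨X, Y, hXo, hYo, hXY, hhX, hhY, sh⟩ := exists_triple hhh hho
  have sh' := fun k => sh ℤ k
  simp only [Int.cast_id] at sh'
  have h01 : ∀ i, i ≠ X → i ≠ Y → i ≠ o → h i = 0 := by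
    intro i hiX hiY hio
    obtain ⟨S, hS, -, h0⟩ := exists_support (n := 3) le_rfl (f := h) (by simpa using hhh)
    refine h0 i fun hi => ?_
    have hm : ∀ j, (h j = 1 ∨ h j = -1) → j ∈ S := fun j hj => by
      by_contra hc; rw [h0 j hc] at hj; omega
    have hsub : ({o, X, Y, i} : Finset ι) ⊆ S := by
      intro j hj
      simp only [Finset.mem_insert, Finset.mem_singleton] at hj
      rcases hj with rfl | rfl | rfl | rfl
      exacts [hm _ (Or.inl hho), hm _ hhX, hm _ hhY, hi]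
    have h4 : ({o, X, Y, i} : Finset ι).card = 4 := by
      simp [hXo.symm, hYo.symm, hio.symm, hXY, hiX.symm, hiY.symm]
    have := Finset.card_le_card hsub
    omega
  have dh : 1 + h X * d X + h Y * d Y = 0 := by rw [← hd1, ← sh' d]; exact hhd
  have hbh' : 1 + b A * h A + b B * h B = 1 := by
    have := sb' h
    rw [hho] at this
    linarith
  have hAB0 : h A = 0 ∧ h B = 0 := by
    by_cases h1 : A = X ∨ A = Y
    · exfalso
      by_cases h2 : B = X ∨ B = Y
      · have e : 1 + h A * d A + h B * d B = 0 := by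
          rcases h1 with rfl | rfl <;> rcases h2 with rfl | rfl
          · exact absurd rfl hAB
          · exact dh
          · linarith
          · exact absurd rfl hAB
        have eA : h A = 1 ∨ h A = -1 := by rcases h1 with rfl | rfl <;> assumption
        have eB : h B = 1 ∨ h B = -1 := by rcases h2 with rfl | rfl <;> assumption
        rcases hbA with ea | ea <;> rcases hbB with eb | eb <;> rcases eA with ea' | ea' <;>
          rcases eB with eb' | eb' <;> rw [ea, eb, ea', eb'] at hbh' <;> rw [ea, eb] at db <;>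
          rw [ea', eb'] at e <;> omega
      · push Not at h2
        rw [h01 B h2.1 h2.2 hBo, mul_zero, add_zero] at hbh'
        have eA : h A = 1 ∨ h A = -1 := by rcases h1 with rfl | rfl <;> assumption
        rcases hbA with ea | ea <;> rcases eA with e | e <;> rw [ea, e] at hbh' <;> omega
    · push Not at h1
      have hA0 := h01 A h1.1 h1.2 hAo
      rw [hA0, mul_zero, add_zero] at hbh'
      have : b B * h B = 0 := by linarith
      exact ⟨hA0, (mul_eq_zero.1 this).resolve_left (by omega)⟩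
  obtain ⟨hA0, hB0⟩ := hAB0
  have hgh' : g D * h D + g E * h E = -1 := by
    have := sg' h
    rw [hA0] at this
    linarith
  wlog hD1 : h D ≠ 0 generalizing D E
  · have hD0 : h D = 0 := not_not.1 hD1
    refine this E D hEA hDA hDE.symm hgE hgD (fun R _ k => by rw [sg R k]; ring)
      (fun k => by rw [sg' k]; ring) (by linarith) ?_
    intro hE0
    rw [hD0, hE0] at hgh'
    simp at hgh'
  have hE0 : h E = 0 ∧ h D = -g D := by
    have hbd : ∀ i, h i = 0 ∨ h i = 1 ∨ h i = -1 := fun i => by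
      obtain ⟨S, -, hpm, h0⟩ := exists_support (n := 3) le_rfl (f := h) (by simpa using hhh)
      by_cases hi : i ∈ S
      · exact Or.inr (hpm i hi)
      · exact Or.inl (h0 i hi)
    exact sign_split' hgD hgE ((hbd D).resolve_left hD1) (hbd E) hgh'
  obtain ⟨hE0, hDg⟩ := hE0
  obtain ⟨hDo, hDB⟩ := hne hgD
  obtain ⟨hEo, hEB⟩ := hne hgE
  have dD := hd D hDo
  have dE := hd E hEo
  have dg : g A * d A + g D * d D + g E * d E = 0 := by rw [← sg' d]; exact hgd
  -- `u` and `v` avoid `A, B, D, E`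
  have key : ∀ w : ι → ℤ, ∑ i, w i * w i = 2 → w o = 0 → ∑ i, b i * w i = 0 → ∑ i, g i * w i = 0 →
      ∑ i, h i * w i = 1 → (∑ i, w i * d i = 0) →
      w A = 0 ∧ w B = 0 ∧ (w E = 0 ∧ w D = 0 ∨ w D = h D ∧ w E ≠ 0 ∧ ∀ i, i ≠ D → i ≠ E → w i = 0) := by
    intro w hw hwo hbw hgw hhw hwd
    obtain ⟨p, q, hpq, hwp, hwq, hsupp⟩ := exists_pair hw
    have two : ∀ {P Q : ι}, P ≠ Q → w P ≠ 0 → w Q ≠ 0 → ∀ i, i ≠ P → i ≠ Q → w i = 0 := by
      intro P Q hPQ hP hQ i hiP hiQ
      by_contra hi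
      rcases hsupp i hi with rfl | rfl <;> rcases hsupp P hP with rfl | rfl <;>
        rcases hsupp Q hQ with rfl | rfl <;> simp_all
    have hpm : ∀ i, w i = 0 ∨ w i = 1 ∨ w i = -1 := fun i => by
      by_cases hi : w i = 0
      · exact Or.inl hi
      · rcases hsupp i hi with rfl | rfl
        exacts [Or.inr hwp, Or.inr hwq]
    have sum2 : ∀ {P Q : ι}, P ≠ Q → (∀ i, i ≠ P → i ≠ Q → w i = 0) →
        ∑ i, w i * d i = w P * d P + w Q * d Q := by
      intro P Q hPQ h0
      rw [← Finset.sum_pair (f := fun i => w i * d i) hPQ]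
      refine (Finset.sum_subset (Finset.subset_univ _) fun i _ hi => ?_).symm
      simp only [Finset.mem_insert, Finset.mem_singleton, not_or] at hi
      rw [h0 i hi.1 hi.2, zero_mul]
    have e1 : b A * w A + b B * w B = 0 := by
      have := sb' w; rw [hbw, hwo] at this; linarith
    have hwAB : w A = 0 ∧ w B = 0 := by
      rcases eq_or_ne (w A) 0 with hwA | hwA
      · rw [hwA, mul_zero, zero_add] at e1
        exact ⟨hwA, (mul_eq_zero.1 e1).resolve_left (by omega)⟩
      · exfalso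
        have hwB : w B ≠ 0 := by
          intro e; rw [e, mul_zero, add_zero] at e1
          exact hwA ((mul_eq_zero.1 e1).resolve_left (by omega))
        have hd2 := hwd
        rw [sum2 hAB (two hAB hwA hwB)] at hd2
        rcases hbA with ea | ea <;> rcases hbB with eb | eb <;>
          rcases hpm A with eA | eA | eA <;> rcases hpm B with eB | eB | eB <;>
          simp only [ea, eb, eA, eB] at e1 hd2 db hwA hwB <;> omega
    obtain ⟨hwA, hwB⟩ := hwAB
    refine ⟨hwA, hwB, ?_⟩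
    have e2 : g D * w D + g E * w E = 0 := by
      have := sg' w; rw [hgw, hwA] at this; linarith
    rcases eq_or_ne (w E) 0 with hwE | hwE
    · rw [hwE, mul_zero, add_zero] at e2
      exact Or.inl ⟨hwE, (mul_eq_zero.1 e2).resolve_left (by omega)⟩
    · right
      have hwD : w D ≠ 0 := by
        intro e; rw [e, mul_zero, zero_add] at e2
        exact hwE ((mul_eq_zero.1 e2).resolve_left (by omega))
      have h0 := two hDE hwD hwE
      refine ⟨?_, hwE, h0⟩
      have e3 : ∑ i, h i * w i = h D * w D := by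
        refine Finset.sum_eq_single D (fun i _ hi => ?_) (fun hh => absurd (Finset.mem_univ D) hh)
        by_cases hiE : i = E
        · rw [hiE, hE0, zero_mul]
        · rw [h0 i hi hiE, mul_zero]
      rw [hhw] at e3
      rcases hpm D with e | e | e <;> rw [e] at e3 hwD ⊢ <;> omega
  have hud : ∑ i, u i * d i = 0 ∧ ∑ i, v i * d i = 0 := ⟨hud0, hvd0⟩
  obtain ⟨uA, uB, hu⟩ := key u huu huo hbu hgu hhu hud.1
  obtain ⟨vA, vB, hv⟩ := key v hvv hvo hbv hgv hhv hud.2
  have hDE0 : u E = 0 ∧ u D = 0 ∧ v E = 0 ∧ v D = 0 := by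
    rcases hu with ⟨uE, uD⟩ | ⟨uD, uE, uo⟩ <;> rcases hv with ⟨vE, vD⟩ | ⟨vD, vE, vo⟩
    · exact ⟨uE, uD, vE, vD⟩
    · exfalso
      rw [Finset.sum_eq_zero (fun i _ => by
        by_cases hi : i = D
        · rw [hi, uD, zero_mul]
        by_cases hi' : i = E
        · rw [hi', uE, zero_mul]
        · rw [vo i hi hi', mul_zero])] at huv
      exact zero_ne_one huv
    · exfalso
      rw [Finset.sum_eq_zero (fun i _ => by
        by_cases hi : i = D
        · rw [hi, vD, mul_zero]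
        by_cases hi' : i = E
        · rw [hi', vE, mul_zero]
        · rw [uo i hi hi', zero_mul])] at huv
      exact zero_ne_one huv
    · exfalso
      have e : ∑ i, u i * v i = u D * v D + u E * v E := by
        rw [← Finset.sum_pair (f := fun i => u i * v i) hDE]
        refine (Finset.sum_subset (Finset.subset_univ _) fun i _ hi => ?_).symm
        simp only [Finset.mem_insert, Finset.mem_singleton, not_or] at hi
        rw [uo i hi.1 hi.2, zero_mul]
      have e2 := sg' u; rw [hgu, uA] at e2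
      have e3 := sg' v; rw [hgv, vA] at e3
      rw [huv, uD, vD] at e
      rw [uD] at e2; rw [vD] at e3
      rcases hgE with eg | eg <;> rcases hgD with ed | ed <;> rw [eg, ed] at e2 e3 <;>
        rw [hDg, ed] at e e2 e3 <;> simp only [mul_one, one_mul, mul_neg, neg_mul, neg_neg] at e e2 e3 <;>
        nlinarith
  obtain ⟨uE, uD, vE, vD⟩ := hDE0
  have hbD : b D = 0 ∧ b E = 0 := by
    obtain ⟨S, hS, hpm, h0⟩ := exists_support (n := 3) le_rfl (f := b) (by simpa using hbb)
    have hm : ∀ j, (b j = 1 ∨ b j = -1) → j ∈ S := fun j hj => by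
      by_contra hc; rw [h0 j hc] at hj; omega
    have hSeq : ({o, A, B} : Finset ι) = S := by
      refine Finset.eq_of_subset_of_card_le (fun j hj => ?_) ?_
      · simp only [Finset.mem_insert, Finset.mem_singleton] at hj
        rcases hj with rfl | rfl | rfl
        exacts [hm _ (Or.inl hbo), hm _ hbA, hm _ hbB]
      · simp [hS, hAo.symm, hBo.symm, hAB]
    exact ⟨h0 D (by simp [← hSeq, hDo, hDA, hDB]), h0 E (by simp [← hSeq, hEo, hEA, hEB])⟩
  have hgE' : g E = 1 ∨ g E = -1 := hgE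
  refine ⟨b A * d A, b B * d B, g D * d D, g E * d E, by linarith, by rw [← gAb]; linarith,
    mul_ne_zero (by omega) (by omega), mul_ne_zero (by omega) (by omega),
    mul_ne_zero (by omega) (by omega), mul_ne_zero (by omega) (by omega),
    by rcases hgE with e | e <;> rw [e] <;> omega,
    by rcases hgE with e | e <;> rw [e] <;> omega, ?_, ?_,
    A, D, hAo, hDo, by omega, by omega, by rcases hbA with e | e <;> simp [e], by rcases hgD with e | e <;> simp [e]⟩
  · rw [sb ℚ (fun i => (z i : ℚ) ^ 2 / d i), hz o, hz A, hz B, hbo, hgo, hho, huo, hvo, hd1, uA, uB,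
      vA, vB, gB0, gAb, hA0, hB0]
    rcases hbA with ea | ea <;> rcases hbB with eb | eb <;> rw [ea, eb] <;> push_cast <;> ring
  · rw [sg ℚ (fun i => (z i : ℚ) ^ 2 / d i), hz A, hz D, hz E, uA, vA, hA0, gAb, uD, vD, uE, vE,
      hbD.1, hbD.2, hE0, hDg]
    rcases hbA with ea | ea <;> rcases hgD with eb | eb <;> rcases hgE with ec | ec <;>
      rw [ea, eb, ec] <;> push_cast <;> ring

/-- The equations. -/
theorem degree_equations (o : ι) (b g h u v d : ι → ℤ)
    (hbb : ∑ i, b i * b i = 3) (hgg : ∑ i, g i * g i = 3) (hhh : ∑ i, h i * h i = 3)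
    (huu : ∑ i, u i * u i = 2) (hvv : ∑ i, v i * v i = 2)
    (hbg : ∑ i, b i * g i = 1) (hbh : ∑ i, b i * h i = 1) (hgh : ∑ i, g i * h i = -1)
    (hbu : ∑ i, b i * u i = 0) (hbv : ∑ i, b i * v i = 0)
    (hgu : ∑ i, g i * u i = 0) (hgv : ∑ i, g i * v i = 0)
    (hhu : ∑ i, h i * u i = 1) (hhv : ∑ i, h i * v i = 1) (huv : ∑ i, u i * v i = 1)
    (hbo : b o = 1) (hgo : g o = 0) (hho : h o = 1) (huo : u o = 0) (hvo : v o = 0)
    (hd1 : d o = 1) (hd : ∀ i, i ≠ o → 2 ≤ d i)
    (hbd : ∑ i, b i * d i = 0) (hgd : ∑ i, g i * d i = 0) (hhd : ∑ i, h i * d i = 0)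
    (hud0 : ∑ i, u i * d i = 0) (hvd0 : ∑ i, v i * d i = 0)
    (z : ι → ℤ) (hz : ∀ i, z i = 2 * u i + 2 * v i + 3 * b i + g i - 2 * h i) :
    ∃ a c e f : ℤ, a + c = -1 ∧ a + e + f = 0 ∧ a ≠ 0 ∧ c ≠ 0 ∧ e ≠ 0 ∧ f ≠ 0 ∧ f ≠ 1 ∧ f ≠ -1 ∧
      ∑ i, (b i : ℚ) * ((z i : ℚ) ^ 2 / d i) = 1 + 16 / a + 9 / c ∧
      ∑ i, (g i : ℚ) * ((z i : ℚ) ^ 2 / d i) = 16 / a + 9 / e + 1 / f := by
  obtain ⟨a, c, e, f, h1, h2, h3, h4, h5, h6, h7, h8, h9, h10, -⟩ := degree_equations' o b g h u v d
    hbb hgg hhh huu hvv hbg hbh hgh hbu hbv hgu hgv hhu hhv huv hbo hgo hho huo hvo hd1 hd hbd hgd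
    hhd hud0 hvd0 z hz
  exact ⟨a, c, e, f, h1, h2, h3, h4, h5, h6, h7, h8, h9, h10⟩

end CfsgLib.GLTwoThree
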