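import Cfsg.Agent.GLTwoThree.Special
import Cfsg.Agent.Char.Orthogonality

/-!
# Functions on an involution centralizer `GL₂(3)` supported on the special classes

Induction to the whole group does not change such functions on the special classes, so it is an
isometry on them.
-/

set_option autoImplicit false

namespace CfsgLib.GLTwoThree

open CfsgLib.Char Finset
open scoped ComplexConjugate

universe u

theorem root_map {X Y : Type*} [Monoid X] [Monoid Y] [DecidableEq X] [DecidableEq Y] (f : X →* Y)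
    (hf : Function.Injective f) (v : X) : f (root v) = root (f v) := by
  simp only [root, ← map_pow, map_eq_one_iff f hf]
  split_ifs <;> rfl

theorem central_involution' :
    ∀ x : Mat, x = z ∨ x * x ≠ 1 ∨ x = 1 ∨ x * a ≠ a * x := by decide +kernel

theorem central_involution {x : Mat} (h : ∀ y : Mat, x * y = y * x) (h2 : x * x = 1) (h1 : x ≠ 1) :
    x = z :=
  ((central_involution' x).resolve_right fun e =>
    e.elim (fun e => e h2) fun e => e.elim h1 fun e => e (h a))

theorem cls_eq_one_iff : ∀ x : Mat, cls x = 1 ↔ x = z := by decide +kernel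

theorem cls_one : cls 1 = 0 := by decide +kernel

theorem cls_inv_supported : ∀ x : Mat, (cls x ≠ 0 ∧ cls x ≠ 6 ∧ cls x ≠ 7) →
    (cls x⁻¹ ≠ 0 ∧ cls x⁻¹ ≠ 6 ∧ cls x⁻¹ ≠ 7) := by decide +kernel

variable {G : Type u} [Group G] [Fintype G] [DecidableEq G] {t : G}

/-- A function on the centralizer given by a table on the classes. -/
def tc (φ : Subgroup.centralizer ({t} : Set G) ≃* Mat) (T : Fin 8 → ℂ) :
    Subgroup.centralizer ({t} : Set G) → ℂ :=
  fun c => T (cls (φ c))

variable (φ : Subgroup.centralizer ({t} : Set G) ≃* Mat)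

omit [Fintype G] [DecidableEq G] in
theorem self_mem : t ∈ Subgroup.centralizer ({t} : Set G) :=
  Subgroup.mem_centralizer_singleton_iff.2 rfl

omit [Fintype G] [DecidableEq G] in
theorem phi_self (ht : orderOf t = 2) : φ ⟨t, self_mem⟩ = z := by
  refine central_involution (fun y => ?_) ?_ ?_
  · obtain ⟨c, rfl⟩ := φ.surjective y
    rw [← map_mul, ← map_mul]
    refine congrArg φ (Subtype.ext ?_)
    exact (Subgroup.mem_centralizer_singleton_iff.1 c.2).symm
  · rw [← map_mul, ← map_one φ]
    refine congrArg φ (Subtype.ext ?_)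
    show t * t = 1
    rw [← sq, ← ht, pow_orderOf_eq_one]
  · rw [← map_one φ]
    intro e
    have : t = 1 := congrArg Subtype.val (φ.injective e)
    rw [this, orderOf_one] at ht
    exact absurd ht (by norm_num)

omit [Fintype G] in
theorem root_coe (ht : orderOf t = 2) (c : Subgroup.centralizer ({t} : Set G))
    (hc : cls (φ c) ≠ 0 ∧ cls (φ c) ≠ 6 ∧ cls (φ c) ≠ 7) : root (c : G) = t := by
  rw [← Subgroup.coe_subtype, ← root_map (Subgroup.centralizer ({t} : Set G)).subtype
    Subtype.val_injective]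
  have h : root c = ⟨t, self_mem⟩ := φ.injective <| by
    have h2 := root_map φ.toMonoidHom φ.injective c
    simp only [MulEquiv.coe_toMonoidHom] at h2
    rw [h2, phi_self φ ht, root_eq _ hc.1 hc.2.1 hc.2.2]
  rw [h]
  rfl

omit [Fintype G] in
theorem conj_mem_centralizer (ht : orderOf t = 2) {x : G}
    (c d : Subgroup.centralizer ({t} : Set G)) (hxd : x * (c : G) * x⁻¹ = d)
    (hc : cls (φ c) ≠ 0 ∧ cls (φ c) ≠ 6 ∧ cls (φ c) ≠ 7)
    (hd : cls (φ d) ≠ 0 ∧ cls (φ d) ≠ 6 ∧ cls (φ d) ≠ 7) :
    x ∈ Subgroup.centralizer ({t} : Set G) := by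
  have h := root_map (MulAut.conj x).toMonoidHom (MulAut.conj x).injective (c : G)
  simp only [MulEquiv.coe_toMonoidHom, MulAut.conj_apply, hxd, root_coe φ ht c hc,
    root_coe φ ht d hd] at h
  rw [Subgroup.mem_centralizer_singleton_iff]
  calc x * t = x * t * x⁻¹ * x := by group
    _ = t * x := by rw [h]

theorem indFun_tc (ht : orderOf t = 2) {T : Fin 8 → ℂ} (h0 : T 0 = 0 ∧ T 6 = 0 ∧ T 7 = 0)
    (hcf : Cfsg.IsClassFunction (Subgroup.centralizer ({t} : Set G)) (tc φ T))
    (c : Subgroup.centralizer ({t} : Set G)) (hc : cls (φ c) ≠ 0 ∧ cls (φ c) ≠ 6 ∧ cls (φ c) ≠ 7) :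
    Cfsg.indFun (Subgroup.centralizer ({t} : Set G)) (tc φ T) (c : G) = tc φ T c := by
  classical
  have hterm : ∀ x : G, Cfsg.extendByZero (Subgroup.centralizer ({t} : Set G)) (tc φ T) (x⁻¹ * c * x) =
      if x ∈ (Subgroup.centralizer ({t} : Set G)) then tc φ T c else 0 := fun x => by
    rw [extendByZero_eq]
    by_cases hm : x⁻¹ * (c : G) * x ∈ (Subgroup.centralizer ({t} : Set G))
    · rw [dif_pos hm]
      by_cases hx : x ∈ (Subgroup.centralizer ({t} : Set G))
      · rw [if_pos hx]
        have h := hcf c ⟨x, hx⟩⁻¹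
        rw [inv_inv] at h
        rw [← h]
        rfl
      · rw [if_neg hx]
        set v : (Subgroup.centralizer ({t} : Set G)) := ⟨x⁻¹ * c * x, hm⟩ with hv
        by_contra hne
        refine hx (conj_mem_centralizer φ ht v c ?_ ⟨?_, ?_, ?_⟩ hc)
        · show x * (x⁻¹ * c * x) * x⁻¹ = c
          group
        all_goals intro e; apply hne; show T (cls (φ v)) = 0; rw [e]
        exacts [h0.1, h0.2.1, h0.2.2]
    · rw [dif_neg hm]
      by_cases hx : x ∈ (Subgroup.centralizer ({t} : Set G))
      · exact absurd ((Subgroup.centralizer ({t} : Set G)).mul_mem ((Subgroup.centralizer ({t} : Set G)).mul_mem ((Subgroup.centralizer ({t} : Set G)).inv_mem hx) c.2) hx) hm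
      · rw [if_neg hx]
  rw [indFun_def, Finset.sum_congr rfl fun x _ => hterm x, ← Finset.sum_filter, Finset.sum_const,
    nsmul_eq_mul]
  have hcard : (univ.filter fun x : G => x ∈ (Subgroup.centralizer ({t} : Set G))).card = Nat.card (Subgroup.centralizer ({t} : Set G)) := by
    rw [Nat.card_eq_fintype_card, Fintype.card_subtype]
  rw [hcard]
  exact inv_mul_cancel_left₀ (Nat.cast_ne_zero.2 Nat.card_pos.ne') _

theorem card_centralizer (φ : Subgroup.centralizer ({t} : Set G) ≃* Mat) :
    Nat.card (Subgroup.centralizer ({t} : Set G)) = 48 := by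
  rw [Nat.card_congr φ.toEquiv, card_mat]

/-- The inner product of two tables. -/
noncomputable def tinner (T S : Fin 8 → ℂ) : ℂ :=
  (48 : ℂ)⁻¹ * ∑ i, (csize i : ℂ) * (T i * conj (S i))

/-- The inner product of induced supported functions is computed in the centralizer. -/
theorem classInner_tc (ht : orderOf t = 2) {T S : Fin 8 → ℂ} (hT : T 0 = 0 ∧ T 6 = 0 ∧ T 7 = 0)
    (hS : S 0 = 0 ∧ S 6 = 0 ∧ S 7 = 0)
    (hScf : Cfsg.IsClassFunction (Subgroup.centralizer ({t} : Set G)) (tc φ S)) :
    Cfsg.classInner (Cfsg.indFun (Subgroup.centralizer ({t} : Set G)) (tc φ T))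
      (Cfsg.indFun (Subgroup.centralizer ({t} : Set G)) (tc φ S)) = tinner T S := by
  classical
  haveI : Fintype (Subgroup.centralizer ({t} : Set G)) := Fintype.ofFinite (Subgroup.centralizer ({t} : Set G))
  rw [classInner_indFun _ (isClassFunction_indFun _ _), classInner_def, tinner, card_centralizer φ,
    Nat.cast_ofNat]
  congr 1
  rw [Finset.sum_congr rfl (g := fun c : (Subgroup.centralizer ({t} : Set G)) => T (cls (φ c)) * conj (S (cls (φ c)))) fun c _ => ?_]
  · rw [show ∑ c, T (cls (φ c)) * conj (S (cls (φ c))) = ∑ x : Mat, T (cls x) * conj (S (cls x)) from φ.toEquiv.sum_comp (fun x => T (cls x) * conj (S (cls x)))]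
    refine (sum_cls (fun i => T i * conj (S i))).trans ?_
    simp only [nsmul_eq_mul]
  · show T (cls (φ c)) * conj (Cfsg.indFun (Subgroup.centralizer ({t} : Set G)) (tc φ S) (c : G)) = _
    by_cases hc : cls (φ c) ≠ 0 ∧ cls (φ c) ≠ 6 ∧ cls (φ c) ≠ 7
    · rw [indFun_tc φ ht hS hScf c hc]
      rfl
    · have : T (cls (φ c)) = 0 := by
        by_cases e0 : cls (φ c) = 0
        · rw [e0]; exact hT.1
        by_cases e6 : cls (φ c) = 6
        · rw [e6]; exact hT.2.1
        by_cases e7 : cls (φ c) = 7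
        · rw [e7]; exact hT.2.2
        exact absurd ⟨e0, e6, e7⟩ hc
      rw [this, zero_mul, zero_mul]

end CfsgLib.GLTwoThree
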