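import Cfsg.Agent.GLTwoThree.Induced
import Cfsg.Agent.GLTwoThree.Combinatorics
import Cfsg.Agent.Char.ClassProducts
import Cfsg.Agent.Char.Linear
import Cfsg.Agent.Invol.ThompsonTransfer
import Mathlib.GroupTheory.Sylow
import Mathlib.GroupTheory.Subgroup.Simple

/-!
# Simple groups with an involution centralizer `GL₂(3)`
-/

set_option autoImplicit false

namespace CfsgLib.GLTwoThree

open CfsgLib.Char Finset
open scoped ComplexConjugate

universe u

/-- The degree equations and a Sylow 2-subgroup of order 16 force the order to be `5616` or `7920`. -/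
theorem order_of_equations {N : ℕ} (h16 : 16 ∣ N) (h32 : ¬ 32 ∣ N) {a c e f : ℤ} (hac : a + c = -1)
    (hsum : a + e + f = 0) (ha : a ≠ 0) (hc : c ≠ 0) (he : e ≠ 0) (hf : f ≠ 0) (hf1 : f ≠ 1)
    (heq : (1 + 16 / a + 9 / c : ℚ) = 16 / a + 9 / e + 1 / f)
    (hN : (N : ℚ) * (1 + 16 / a + 9 / c) = 9216) : N = 5616 ∨ N = 7920 := by
  have haQ : (a : ℚ) ≠ 0 := Int.cast_ne_zero.2 ha
  have hcQ : (c : ℚ) ≠ 0 := Int.cast_ne_zero.2 hc
  have heQ : (e : ℚ) ≠ 0 := Int.cast_ne_zero.2 he
  have hfQ : (f : ℚ) ≠ 0 := Int.cast_ne_zero.2 hf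
  -- with `d = -e`: `(c + 9) (d + 9) = 72`
  have h1 : e * f * (c + 9) = c * (9 * f + e) := by
    have h0 : (1 + 9 / c : ℚ) = 9 / e + 1 / f := by linarith
    field_simp at h0
    have h2 : ((e * f * (c + 9) : ℤ) : ℚ) = ((c * (9 * f + e) : ℤ) : ℚ) := by
      push_cast
      linear_combination h0
    exact_mod_cast h2
  have hfe : f = 1 + c - e := by omega
  have h2 : (f - 1) * (c * (-e) + 9 * f) = 0 := by
    subst hfe
    linear_combination -h1
  have h3 : (c + 9) * (-e + 9) = 72 := by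
    have h4 : c * (-e) + 9 * f = 0 := (mul_eq_zero.1 h2).resolve_left (by omega)
    subst hfe
    linear_combination h4
  have hN' : (N : ℤ) * (a * c + 16 * c + 9 * a) = 9216 * a * c := by
    field_simp at hN
    have h5 : (((N : ℤ) * (a * c + 16 * c + 9 * a) : ℤ) : ℚ) = ((9216 * a * c : ℤ) : ℚ) := by
      push_cast
      linear_combination hN
    exact_mod_cast h5
  obtain ⟨k, hk⟩ : ∃ k, N = 16 * (2 * k + 1) := by
    obtain ⟨m, rfl⟩ := h16
    exact ⟨m / 2, by omega⟩
  have hdvd : (c + 9) ∣ 72 := Dvd.intro _ h3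
  have hub : c + 9 ≤ 72 := Int.le_of_dvd (by norm_num) hdvd
  have hlb : -(c + 9) ≤ 72 := Int.le_of_dvd (by norm_num) (Int.neg_dvd.2 hdvd)
  have ha' : a = -1 - c := by omega
  subst ha'
  have hc2 : c ≤ 63 := by omega
  have hc3 : -81 ≤ c := by omega
  interval_cases c <;> (try norm_num at hdvd) <;> (try norm_num at ha hc) <;> (try norm_num at hN') <;> omega

variable {G : Type u} [Group G] [Fintype G] [DecidableEq G] {t : G}

omit [DecidableEq G] in
theorem eq_one_of_degree_one [IsSimpleGroup G] (hnc : ¬ ∀ x y : G, x * y = y * x) {χ : G → ℂ}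
    (hχ : Cfsg.IsIrrCharacter G χ) (h1 : χ 1 = 1) : χ = fun _ => 1 := by
  obtain ⟨lam, rfl⟩ := IsCharacter.exists_hom (IsIrrCharacter.isCharacter hχ) h1
  rcases IsSimpleGroup.eq_bot_or_eq_top_of_normal lam.ker inferInstance with h | h
  · exact absurd (fun x y => (MonoidHom.ker_eq_bot_iff lam).1 h (by rw [map_mul, map_mul, mul_comm]))
      hnc
  · funext g
    have : lam g = 1 := MonoidHom.mem_ker.1 (h ▸ Subgroup.mem_top g)
    simp [this]

variable (φ : Subgroup.centralizer ({t} : Set G) ≃* Mat)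

include φ

omit [Fintype G] [DecidableEq G] in
theorem not_commutative_G : ¬ ∀ x y : G, x * y = y * x := fun h => by
  obtain ⟨x, y, hxy⟩ := not_commutative
  refine hxy (φ.symm.injective ?_)
  rw [map_mul, map_mul]
  exact Subtype.ext (h _ _)

omit [Fintype G] [DecidableEq G] in
theorem exists_a (ht : orderOf t = 2) : ∃ A : G, A ∈ Subgroup.centralizer ({t} : Set G) ∧
    orderOf A = 8 ∧ A ^ 4 = t := by
  refine ⟨(φ.symm a : Subgroup.centralizer ({t} : Set G)), SetLike.coe_mem _, ?_, ?_⟩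
  · rw [Subgroup.orderOf_coe, MulEquiv.orderOf_eq, orderOf_a]
  · rw [← SubgroupClass.coe_pow, ← map_pow, a_pow_four, ← phi_self φ ht, MulEquiv.symm_apply_apply]

theorem exists_sylow (ht : orderOf t = 2) :
    ∃ (S : Sylow 2 G) (A : G), A ∈ (S : Subgroup G) ∧ orderOf A = 8 ∧ A ^ 4 = t ∧
      Nat.card (S : Subgroup G) = 16 := by
  haveI : Fact (Nat.Prime 2) := ⟨Nat.prime_two⟩
  obtain ⟨A, hAC, hA8, hA4⟩ := exists_a φ ht
  set H := Subgroup.centralizer ({t} : Set G) with hH
  have hA : IsPGroup 2 ((Subgroup.zpowers A).subgroupOf H) := by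
    refine (IsPGroup.of_card (n := 3) ?_).comap_subtype
    rw [Nat.card_zpowers, hA8]; norm_num
  obtain ⟨R, hR⟩ := hA.exists_le_sylow
  have hAR : (⟨A, hAC⟩ : H) ∈ (R : Subgroup H) :=
    hR (by rw [Subgroup.mem_subgroupOf]; exact Subgroup.mem_zpowers A)
  have hRcard : Nat.card (R : Subgroup H) = 16 := by
    rw [R.card_eq_multiplicity, card_centralizer φ]
    rw [show Nat.factorization 48 2 = 4 from ?_]
    · norm_num
    · rw [show (48 : ℕ) = 2 ^ 4 * 3 by norm_num, Nat.factorization_mul (by norm_num) (by norm_num),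
        Finsupp.add_apply, Nat.Prime.factorization_pow Nat.prime_two,
        Nat.factorization_eq_zero_of_not_dvd (show ¬ 2 ∣ 3 by norm_num), Finsupp.single_eq_same]
  set R' := (R : Subgroup H).map H.subtype with hR'
  have hR'card : Nat.card R' = 16 := by
    rw [hR', Subgroup.card_map_of_injective H.subtype_injective, hRcard]
  have hR'H : R' ≤ H := Subgroup.map_subtype_le _
  obtain ⟨S, hS⟩ := (IsPGroup.of_card (p := 2) (n := 4) (by rw [hR'card]; norm_num) :
    IsPGroup 2 R').exists_le_sylow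
  refine ⟨S, A, hS ⟨⟨A, hAC⟩, hAR, rfl⟩, hA8, hA4, ?_⟩
  suffices (S : Subgroup G) = R' by rw [this, hR'card]
  by_contra hne
  have hlt : R'.subgroupOf (S : Subgroup G) < ⊤ := by
    refine lt_top_iff_ne_top.2 fun e => hne (le_antisymm ?_ hS)
    exact Subgroup.subgroupOf_eq_top.1 e
  haveI : Group.IsNilpotent (S : Subgroup G) := S.isPGroup'.isNilpotent
  have hlt2 := Group.normalizerCondition_of_isNilpotent (R'.subgroupOf (S : Subgroup G)) hlt
  obtain ⟨g, hg, hgR⟩ := SetLike.exists_of_lt hlt2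
  -- `g` centralizes `t`
  have hgn : ∀ x ∈ R', (g : G) * x * (g : G)⁻¹ ∈ R' := fun x hx => by
    have := (Subgroup.mem_normalizer_iff.1 hg ⟨x, hS hx⟩).1 (by rwa [Subgroup.mem_subgroupOf])
    rwa [Subgroup.mem_subgroupOf] at this
  have hgC : (g : G) ∈ H := by
    have hm : (g : G) * A * (g : G)⁻¹ ∈ H := hR'H (hgn A ⟨⟨A, hAC⟩, hAR, rfl⟩)
    have h8 : ((g : G) * A * (g : G)⁻¹) ^ 8 = 1 := by
      rw [conj_pow, ← hA8, pow_orderOf_eq_one, mul_one, mul_inv_cancel]
    have h4 : ((g : G) * A * (g : G)⁻¹) ^ 4 = (g : G) * t * (g : G)⁻¹ := by rw [conj_pow, hA4]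
    have hne1 : (g : G) * t * (g : G)⁻¹ ≠ 1 := by
      intro e
      rw [conj_eq_one_iff] at e
      rw [e, orderOf_one] at ht
      exact absurd ht (by norm_num)
    have key := eight_root (φ ⟨_, hm⟩) (by
        rw [← map_pow, ← map_one φ]
        exact congrArg φ (Subtype.ext h8))
      (by
        rw [← map_pow, ← map_one φ]
        intro e
        exact hne1 (h4.symm.trans (congrArg Subtype.val (φ.injective e))))
    rw [← map_pow, ← phi_self φ ht] at key
    have e : (g : G) * t * (g : G)⁻¹ = t := h4.symm.trans (congrArg Subtype.val (φ.injective key))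
    rw [hH, Subgroup.mem_centralizer_singleton_iff]
    calc (g : G) * t = (g : G) * t * (g : G)⁻¹ * g := by group
      _ = t * g := by rw [e]
  have hsub : (S : Subgroup G).subgroupOf H = (R : Subgroup H) := R.3
    S.isPGroup'.comap_subtype
    (fun x hx => by rw [Subgroup.mem_subgroupOf]; exact hS ⟨x, hx, rfl⟩)
  refine hgR ?_
  rw [Subgroup.mem_subgroupOf]
  exact ⟨⟨g, hgC⟩, by rw [SetLike.mem_coe, ← hsub, Subgroup.mem_subgroupOf]; exact g.2, rfl⟩

theorem isConj_of_orderOf_two [IsSimpleGroup G] (ht : orderOf t = 2) {x : G} (hx : x * x = 1)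
    (hx1 : x ≠ 1) : IsConj t x := by
  obtain ⟨S, A, hAS, hA8, hA4, hS⟩ := exists_sylow φ ht
  haveI : Fact (Nat.Prime 2) := ⟨Nat.prime_two⟩
  have hodd : Odd (S : Subgroup G).index := by
    rw [← Nat.not_even_iff_odd, even_iff_two_dvd]
    exact S.not_dvd_index
  have hrel : (Subgroup.zpowers A).relIndex (S : Subgroup G) = 2 := by
    have h := Subgroup.card_mul_index ((Subgroup.zpowers A).subgroupOf (S : Subgroup G))
    rw [Nat.card_congr (Subgroup.subgroupOfEquivOfLe (Subgroup.zpowers_le.2 hAS)).toEquiv,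
      Nat.card_zpowers, hA8, hS] at h
    show ((Subgroup.zpowers A).subgroupOf (S : Subgroup G)).index = 2
    omega
  rcases CfsgLib.ThompsonTransfer.thompson_transfer (S : Subgroup G) _ hodd hrel hx with
    ⟨M, hM, hM2, hxM⟩ | ⟨g, hg⟩
  · exfalso
    rcases IsSimpleGroup.eq_bot_or_eq_top_of_normal M hM with rfl | rfl
    · rw [Subgroup.index_bot] at hM2
      have h16 := (S : Subgroup G).card_subgroup_dvd_card
      rw [hS, hM2] at h16
      norm_num at h16
    · exact hxM (Subgroup.mem_top x)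
  · refine (isConj_iff.2 ⟨g, ?_⟩).symm
    have hy2 : (g * x * g⁻¹) ^ 2 = 1 := by rw [conj_pow, sq, hx, mul_one, mul_inv_cancel]
    have hy1 : g * x * g⁻¹ ≠ 1 := fun e => hx1 (by rwa [conj_eq_one_iff] at e)
    obtain ⟨n, hn⟩ := (Submonoid.mem_powers_iff _ _).1 ((mem_powers_iff_mem_zpowers).2 hg)
    rw [← hn] at hy2 hy1 ⊢
    rw [← pow_mul, ← orderOf_dvd_iff_pow_eq_one, hA8] at hy2
    rw [ne_eq, ← orderOf_dvd_iff_pow_eq_one, hA8] at hy1
    rw [← hA4, ← pow_mod_orderOf A n, hA8]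
    congr 1
    omega

/-- The tables of `β`, `γ`, `δ`, `η`, `η̄`. -/
noncomputable def tab : Fin 5 → Fin 8 → ℂ :=
  ![fun i => (beta i : ℂ), fun i => (gamma i : ℂ), fun i => (delta i : ℂ),
    fun i => (etaRe i : ℂ) - (indIm i : ℂ) * w, fun i => (etaRe i : ℂ) + (indIm i : ℂ) * w]

omit φ in
theorem tab_supported (k : Fin 5) : tab k 0 = 0 ∧ tab k 6 = 0 ∧ tab k 7 = 0 := by
  obtain ⟨a0, b0, c0, d0, e0⟩ := supported 0 (Or.inl rfl)
  obtain ⟨a6, b6, c6, d6, e6⟩ := supported 6 (Or.inr (Or.inl rfl))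
  obtain ⟨a7, b7, c7, d7, e7⟩ := supported 7 (Or.inr (Or.inr rfl))
  fin_cases k <;>
    simp [tab, a0, b0, c0, d0, e0, a6, b6, c6, d6, e6, a7, b7, c7, d7, e7]

theorem isGen_tab (k : Fin 5) :
    Cfsg.IsGeneralizedCharacter (Subgroup.centralizer ({t} : Set G)) (tc φ (tab k)) := by
  have h : Cfsg.IsGeneralizedCharacter Mat (fun g => tab k (cls g)) := by
    fin_cases k
    exacts [isGen_beta, isGen_gamma, isGen_delta, isGen_eta, isGen_eta']
  exact IsGeneralized.comp h φ.toMonoidHom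

/-- The Gram matrix. -/
def gram : Fin 5 → Fin 5 → ℤ :=
  ![![3, 1, 1, 0, 0], ![1, 3, -1, 0, 0], ![1, -1, 3, 1, 1], ![0, 0, 1, 2, 1], ![0, 0, 1, 1, 2]]

omit φ in
theorem tinner_tab (j k : Fin 5) : tinner (tab j) (tab k) = gram j k := by
  fin_cases j <;> fin_cases k <;>
    simp [tinner, tab, gram, Fin.sum_univ_eight, csize, beta, gamma, delta, etaRe, indIm, conj_w] <;>
    ring_nf <;> simp [pow_two, w_sq] <;> norm_num

omit φ in
theorem tinner_tab_one (k : Fin 5) : tinner (tab k) (fun _ => 1) = if k = 0 ∨ k = 2 then 1 else 0 := by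
  fin_cases k <;>
    simp [tinner, tab, Fin.sum_univ_eight, csize, beta, gamma, delta, etaRe, indIm] <;> ring_nf

omit φ in
/-- The indicator of the central involution. -/
theorem tab_indicator (i : Fin 8) :
    2 * tab 3 i + 2 * tab 4 i + 3 * tab 0 i + tab 1 i - 2 * tab 2 i = if i = 1 then 48 else 0 := by
  fin_cases i <;> simp [tab, beta, gamma, delta, etaRe, indIm] <;> ring_nf

theorem card_eq [IsSimpleGroup G] (ht : orderOf t = 2) :
    Nat.card G = 5616 ∨ Nat.card G = 7920 := by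
  classical
  set C := Subgroup.centralizer ({t} : Set G) with hC
  haveI : Fintype C := Fintype.ofFinite C
  have hnc : ¬ ∀ x y : G, x * y = y * x := not_commutative_G φ
  set θ : Fin 5 → G → ℂ := fun k => Cfsg.indFun C (tc φ (tab k)) with hθ
  have hgen : ∀ k, Cfsg.IsGeneralizedCharacter G (θ k) := fun k =>
    IsGeneralized.indFun (isGen_tab φ k)
  have hm : ∀ (k : Fin 5) (χ : {x // x ∈ irrFinset G}), ∃ n : ℤ,
      Cfsg.classInner (θ k) (χ : G → ℂ) = n := fun k χ =>
    IsGeneralized.exists_classInner_eq_int (hgen k)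
      (IsIrrCharacter.isGeneralized (mem_irrFinset.1 χ.2))
  choose m hm using hm
  have hd : ∀ χ : {x // x ∈ irrFinset G}, ∃ n : ℕ, 0 < n ∧ (χ : G → ℂ) 1 = n := fun χ =>
    IsIrrCharacter.exists_degree (mem_irrFinset.1 χ.2)
  choose d hd0 hd using hd
  let o : {x // x ∈ irrFinset G} := ⟨fun _ => 1, mem_irrFinset.2 isIrrCharacter_one⟩
  have hcf : ∀ k, Cfsg.IsClassFunction C (tc φ (tab k)) := fun k =>
    IsGeneralized.isClassFunction (isGen_tab φ k)
  have hgram : ∀ j k, ∑ χ, m j χ * m k χ = gram j k := by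
    intro j k
    have h := classInner_eq_sum_irr (IsGeneralized.isClassFunction (hgen j)) (θ k)
    rw [show Cfsg.classInner (θ j) (θ k) = tinner (tab j) (tab k) from
      classInner_tc φ ht (tab_supported j) (tab_supported k) (hcf k), tinner_tab,
      ← Finset.sum_attach (irrFinset G), ← Finset.univ_eq_attach] at h
    simp only [hm, map_intCast, ← Int.cast_mul, ← Int.cast_sum, Int.cast_inj] at h
    exact h.symm
  have hcls : ∀ F : Fin 8 → ℂ, ∑ c : C, F (cls (φ c)) = ∑ i, (csize i : ℂ) * F i := fun F => by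
    rw [show ∑ c : C, F (cls (φ c)) = ∑ x : Mat, F (cls x) from φ.toEquiv.sum_comp (fun x => F (cls x))]
    refine (sum_cls F).trans ?_
    simp only [nsmul_eq_mul]
  have hcard : (Nat.card C : ℂ) = 48 := by
    rw [show Nat.card C = 48 from card_centralizer φ, Nat.cast_ofNat]
  have hone : ∀ k, m k o = if k = 0 ∨ k = 2 then 1 else 0 := by
    intro k
    have h := hm k o
    rw [hθ] at h
    simp only [o] at h
    rw [classInner_indFun _ (IsIrrCharacter.isClassFunction isIrrCharacter_one), classInner_def,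
      hcard] at h
    have h2 : ((m k o : ℤ) : ℂ) = tinner (tab k) (fun _ => 1) := by
      rw [← h, tinner, ← hcls (fun i => tab k i * conj (1 : ℂ))]
      rfl
    rw [tinner_tab_one] at h2
    split_ifs with hk
    · rw [if_pos hk] at h2; exact_mod_cast h2
    · rw [if_neg hk] at h2; exact_mod_cast h2
  have hdeg : ∀ k, ∑ χ, m k χ * (d χ : ℤ) = 0 := by
    intro k
    have h1 : θ k 1 = 0 := by
      rw [hθ]
      simp only
      rw [indFun_one]
      simp [tc, cls_one, (tab_supported k).1]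
    rw [eq_sum_irr (IsGeneralized.isClassFunction (hgen k)), Finset.sum_apply,
      ← Finset.sum_attach (irrFinset G), ← Finset.univ_eq_attach] at h1
    simp only [Pi.smul_apply, smul_eq_mul, hm, hd] at h1
    exact_mod_cast h1
  have hdo : d o = 1 := by
    have h := hd o
    simp only [o] at h
    exact_mod_cast h.symm
  have hd2 : ∀ χ, χ ≠ o → (2 : ℤ) ≤ d χ := by
    intro χ hχ
    by_contra hlt
    have h1 : d χ = 1 := by have := hd0 χ; omega
    exact hχ (Subtype.ext (eq_one_of_degree_one hnc (mem_irrFinset.1 χ.2) (by rw [hd, h1]; simp)))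
  -- the values at `t`
  set zc : {x // x ∈ irrFinset G} → ℤ :=
    fun χ => 2 * m 3 χ + 2 * m 4 χ + 3 * m 0 χ + m 1 χ - 2 * m 2 χ with hzc
  have hval : ∀ χ : {x // x ∈ irrFinset G}, (χ : G → ℂ) t = zc χ := by
    intro χ
    have hr : ∀ k, ((m k χ : ℤ) : ℂ) = (48 : ℂ)⁻¹ * ∑ c : C, tab k (cls (φ c)) * conj ((χ : G → ℂ) c) := by
      intro k
      rw [← hm k χ, hθ]
      simp only
      rw [classInner_indFun _ (IsIrrCharacter.isClassFunction (mem_irrFinset.1 χ.2)), classInner_def,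
        hcard]
      rfl
    have h48 : ((zc χ : ℤ) : ℂ) = (48 : ℂ)⁻¹ * ∑ c : C,
        (if cls (φ c) = 1 then (48 : ℂ) else 0) * conj ((χ : G → ℂ) c) := by
      rw [hzc]
      push_cast
      rw [hr, hr, hr, hr, hr]
      simp only [← tab_indicator, add_mul, sub_mul, mul_assoc, Finset.sum_add_distrib,
        Finset.sum_sub_distrib, ← Finset.mul_sum]
      ring
    rw [Finset.sum_eq_single (⟨t, self_mem⟩ : C), if_pos ((cls_eq_one_iff _).2 (phi_self φ ht)),
      ← mul_assoc, inv_mul_cancel₀ (by norm_num : (48 : ℂ) ≠ 0), one_mul] at h48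
    · have h2 : (χ : G → ℂ) t = conj ((zc χ : ℤ) : ℂ) := by rw [h48, Complex.conj_conj]
      rw [h2, map_intCast]
    · intro c _ hc
      rw [if_neg, zero_mul]
      intro e
      exact hc (φ.injective (((cls_eq_one_iff _).1 e).trans (phi_self φ ht).symm))
    · exact fun h => absurd (Finset.mem_univ _) h
  -- pairs of involutions
  set K := Nat.card {x : G // IsConj t x} with hK
  have hKG : Nat.card G = 48 * K := by
    have hC48 : Nat.card (Subgroup.centralizer ({t} : Set G)) = 48 := card_centralizer φ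
    rw [hK, card_conj_class, ← hC48, Subgroup.card_mul_index]
  set F : G → ℕ := fun v =>
    Nat.card {p : G × G // IsConj t p.1 ∧ IsConj t p.2 ∧ p.1 * p.2 = v} with hF
  have hFf : ∀ v, (F v : ℂ) = (K : ℂ) * K / (Nat.card G : ℂ) *
      ∑ χ ∈ irrFinset G, χ t * χ t * conj (χ v) / χ 1 := fun v => card_class_products t t v
  have hFcf : Cfsg.IsClassFunction G (fun v => (F v : ℂ)) := by
    intro g h
    simp only [hFf]
    congr 1
    refine Finset.sum_congr rfl fun χ hχ => ?_
    rw [IsIrrCharacter.isClassFunction (mem_irrFinset.1 hχ) g h]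
  have hcount : ∀ c : C, cls (φ c) ≠ 0 ∧ cls (φ c) ≠ 6 ∧ cls (φ c) ≠ 7 →
      F (c : G) = (Finset.univ.filter fun x : Mat =>
        x ≠ 1 ∧ x * x = 1 ∧ x * φ c ≠ 1 ∧ x * φ c * (x * φ c) = 1).card := by
    intro c hc
    have hinv : ∀ y, IsConj t y → y * y = 1 ∧ y ≠ 1 := by
      intro y hy
      obtain ⟨g, rfl⟩ := isConj_iff.1 hy
      refine ⟨?_, fun e => ?_⟩
      · rw [← sq, conj_pow, ← ht, pow_orderOf_eq_one, mul_one, mul_inv_cancel]
      · rw [conj_eq_one_iff] at e
        rw [e, orderOf_one] at ht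
        exact absurd ht (by norm_num)
    have hp : ∀ p : G × G, IsConj t p.1 → IsConj t p.2 → p.1 * p.2 = (c : G) →
        p.1 ∈ C ∧ p.2 = p.1 * (c : G) := by
      intro p h1 h2 h12
      obtain ⟨a1, -⟩ := hinv _ h1
      obtain ⟨a2, -⟩ := hinv _ h2
      have e2 : p.2 = p.1 * (c : G) := by rw [← h12, ← mul_assoc, a1, one_mul]
      refine ⟨?_, e2⟩
      refine conj_mem_centralizer φ ht c c⁻¹ ?_ hc ?_
      · rw [Subgroup.coe_inv, ← h12, mul_inv_rev]
        rw [inv_eq_of_mul_eq_one_right a1, inv_eq_of_mul_eq_one_right a2, ← mul_assoc, a1, one_mul]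
      · rw [map_inv]
        exact cls_inv_supported _ hc
    rw [← Fintype.card_subtype, ← Nat.card_eq_fintype_card, hF]
    refine Nat.card_congr
      { toFun := fun p => ⟨φ ⟨p.1.1, (hp _ p.2.1 p.2.2.1 p.2.2.2).1⟩, ?_, ?_, ?_, ?_⟩
        invFun := fun x => ⟨((φ.symm x.1 : C), (φ.symm x.1 : C) * (c : G)), ?_, ?_, ?_⟩
        left_inv := fun p => ?_
        right_inv := fun x => ?_ }
    · rw [← map_one φ]
      exact fun e => (hinv _ p.2.1).2 (congrArg Subtype.val (φ.injective e))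
    · rw [← map_mul, ← map_one φ]
      exact congrArg φ (Subtype.ext (hinv _ p.2.1).1)
    · rw [← map_mul, ← map_one φ]
      intro e
      apply (hinv _ p.2.2.1).2
      rw [(hp _ p.2.1 p.2.2.1 p.2.2.2).2]
      exact congrArg Subtype.val (φ.injective e)
    · rw [← map_mul, ← map_mul, ← map_one φ]
      refine congrArg φ (Subtype.ext ?_)
      have := (hinv _ p.2.2.1).1
      rw [(hp _ p.2.1 p.2.2.1 p.2.2.2).2] at this
      exact this
    · refine isConj_of_orderOf_two φ ht ?_ ?_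
      · rw [← Subgroup.coe_mul, ← map_mul, x.2.2.1, map_one, Subgroup.coe_one]
      · intro e
        exact x.2.1 (φ.symm.injective (by rw [map_one]; exact Subtype.ext e))
    · refine isConj_of_orderOf_two φ ht ?_ ?_
      · rw [← Subgroup.coe_mul, ← Subgroup.coe_mul]
        refine congrArg Subtype.val (show φ.symm x.1 * c * (φ.symm x.1 * c) = 1 from φ.injective ?_)
        rw [map_mul, map_mul, φ.apply_symm_apply, map_one]
        exact x.2.2.2.2
      · intro e
        refine x.2.2.2.1 (φ.symm.injective ?_)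
        rw [map_one, map_mul, φ.symm_apply_apply]
        exact Subtype.ext e
    · show ((φ.symm x.1 : C) : G) * ((φ.symm x.1 : C) * (c : G)) = c
      rw [← mul_assoc, ← Subgroup.coe_mul, ← map_mul, x.2.2.1, map_one, Subgroup.coe_one, one_mul]
    · refine Subtype.ext (Prod.ext ?_ ?_)
      · simp
      · simp only [MulEquiv.symm_apply_apply]
        exact ((hp _ p.2.1 p.2.2.1 p.2.2.2).2).symm
    · refine Subtype.ext ?_
      simp
  have hS : ∀ k : Fin 5, ∀ T : Fin 8 → ℤ, (∀ i, tab k i = (T i : ℂ)) →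
      (∑ v : Mat, T (cls v) * ((Finset.univ.filter fun x : Mat =>
        x ≠ 1 ∧ x * x = 1 ∧ x * v ≠ 1 ∧ x * v * (x * v) = 1).card : ℤ) = 4 * 48) →
      (Nat.card G : ℚ) * ∑ χ, (m k χ : ℚ) * ((zc χ : ℚ) ^ 2 / (d χ : ℤ)) = 9216 := by
    intro k T hT hpairs
    have h1 : Cfsg.classInner (θ k) (fun v => (F v : ℂ)) = 4 := by
      rw [hθ]
      simp only
      rw [classInner_indFun _ hFcf, classInner_def, hcard]
      have h2 : ∑ c : C, tc φ (tab k) c * conj ((F (c : G) : ℂ)) = ((4 * 48 : ℤ) : ℂ) := by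
        rw [← hpairs, Int.cast_sum, ← φ.toEquiv.sum_comp]
        refine Finset.sum_congr rfl fun c _ => ?_
        show tab k (cls (φ c)) * conj ((F (c : G) : ℂ)) = _
        rw [Complex.conj_natCast]
        by_cases hc : cls (φ c) ≠ 0 ∧ cls (φ c) ≠ 6 ∧ cls (φ c) ≠ 7
        · rw [hcount c hc, hT, Int.cast_mul, Int.cast_natCast]
          rfl
        · have h0 : tab k (cls (φ c)) = 0 := by
            by_cases e0 : cls (φ c) = 0
            · rw [e0]; exact (tab_supported k).1
            by_cases e6 : cls (φ c) = 6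
            · rw [e6]; exact (tab_supported k).2.1
            by_cases e7 : cls (φ c) = 7
            · rw [e7]; exact (tab_supported k).2.2
            exact absurd ⟨e0, e6, e7⟩ hc
          have h0' : (T (cls (φ c)) : ℂ) = 0 := by rw [← hT, h0]
          rw [h0, zero_mul, Int.cast_mul]
          show (0 : ℂ) = (T (cls (φ c)) : ℂ) * _
          rw [h0', zero_mul]
      rw [h2]
      norm_num
    have hGne : (Nat.card G : ℂ) ≠ 0 := Nat.cast_ne_zero.2 Nat.card_pos.ne'
    have h3 : Cfsg.classInner (θ k) (fun v => (F v : ℂ)) = (K : ℂ) * K / (Nat.card G : ℂ) *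
        ∑ χ ∈ irrFinset G, Cfsg.classInner (θ k) χ * (χ t * χ t / χ 1) := by
      rw [classInner_def, Finset.sum_congr rfl (g := fun v => θ k v * (F v : ℂ)) fun v _ =>
        congrArg (θ k v * ·) (Complex.conj_natCast (F v)), Finset.mul_sum, Finset.mul_sum]
      simp only [classInner_def, hFf, Finset.mul_sum, Finset.sum_mul]
      rw [Finset.sum_comm]
      refine Finset.sum_congr rfl fun χ _ => Finset.sum_congr rfl fun v _ => ?_
      ring
    rw [h1, ← Finset.sum_attach (irrFinset G), ← Finset.univ_eq_attach] at h3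
    simp only [hm, hval, hd] at h3
    have h5 : (K : ℂ) * ∑ χ, (m k χ : ℂ) * ((zc χ : ℂ) ^ 2 / (d χ : ℂ)) = 192 := by
      have hK0 : (K : ℂ) ≠ 0 := by
        intro e
        apply hGne
        rw [hKG]
        push_cast
        rw [e, mul_zero]
      rw [hKG] at h3
      push_cast at h3
      rw [show (K : ℂ) * K / (48 * (K : ℂ)) = (K : ℂ) / 48 by field_simp] at h3
      have e : ∑ χ, (m k χ : ℂ) * ((zc χ : ℂ) ^ 2 / (d χ : ℂ)) =
          ∑ χ, (m k χ : ℂ) * ((zc χ : ℂ) * (zc χ : ℂ) / (d χ : ℂ)) :=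
        Finset.sum_congr rfl fun χ _ => by rw [sq]
      rw [e]
      linear_combination -48 * h3
    have h6 : (K : ℚ) * ∑ χ, (m k χ : ℚ) * ((zc χ : ℚ) ^ 2 / (d χ : ℤ)) = 192 := by
      apply Rat.cast_injective (α := ℂ)
      push_cast
      exact h5
    rw [hKG]
    push_cast at h6 ⊢
    linear_combination 48 * h6
  have hb := hS 0 beta (fun i => rfl) pairs_beta
  have hg := hS 1 gamma (fun i => rfl) pairs_gamma
  obtain ⟨a', c', e', f', hac, hsum, ha, hc, he, hf, hf1, -, hbS, hgS⟩ :=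
    degree_equations o (m 0) (m 1) (m 2) (m 3) (m 4) (fun χ => (d χ : ℤ))
      (hgram 0 0) (hgram 1 1) (hgram 2 2) (hgram 3 3) (hgram 4 4) (hgram 0 1) (hgram 0 2)
      (hgram 1 2) (hgram 0 3) (hgram 0 4) (hgram 1 3) (hgram 1 4) (hgram 2 3) (hgram 2 4) (hgram 3 4)
      (by rw [hone]; rfl) (by rw [hone]; rfl) (by rw [hone]; rfl) (by rw [hone]; rfl)
      (by rw [hone]; rfl) (by rw [hdo]; rfl) hd2 (hdeg 0) (hdeg 1) (hdeg 2) (hdeg 3) (hdeg 4)
      zc (fun χ => rfl)
  rw [hbS] at hb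
  rw [hgS] at hg
  have hne : (Nat.card G : ℚ) ≠ 0 := Nat.cast_ne_zero.2 Nat.card_pos.ne'
  obtain ⟨S, -, -, -, -, hS16⟩ := exists_sylow φ ht
  haveI : Fact (Nat.Prime 2) := ⟨Nat.prime_two⟩
  refine order_of_equations (hS16 ▸ (S : Subgroup G).card_subgroup_dvd_card) ?_ hac hsum ha hc he hf
    hf1 (mul_left_cancel₀ hne (hb.trans hg.symm)) hb
  intro h32
  have h := (S : Subgroup G).index_mul_card
  rw [hS16] at h
  have := S.not_dvd_index
  omega

end CfsgLib.GLTwoThree
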