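import Cfsg.Agent.GLTwoThree.Model
import Mathlib.Data.Real.Sqrt

/-!
# Four generalized characters of `GL₂(3)` supported on the special classes
-/

set_option autoImplicit false

namespace CfsgLib.GLTwoThree

open CfsgLib.Char
open scoped ComplexConjugate

/-- The square root of `-2`. -/
noncomputable def w : ℂ := (Real.sqrt 2 : ℂ) * Complex.I

/-- A primitive eighth root of unity. -/
noncomputable def om : ℂ := (Real.sqrt 2 : ℂ) / 2 * (1 + Complex.I)

theorem sqrtTwo_sq : (Real.sqrt 2 : ℂ) * (Real.sqrt 2 : ℂ) = 2 := by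
  rw [← Complex.ofReal_mul, Real.mul_self_sqrt (by norm_num)]
  norm_num

theorem w_sq : w * w = -2 := by
  rw [w, mul_mul_mul_comm, sqrtTwo_sq, Complex.I_mul_I]; norm_num

theorem conj_w : conj w = -w := by
  simp [w, Complex.conj_ofReal]

theorem om_sq : om * om = Complex.I := by
  rw [om]
  linear_combination (1 + Complex.I) * (1 + Complex.I) / 4 * sqrtTwo_sq + Complex.I_mul_I / 2

theorem om_pow_four : om ^ 4 = -1 := by
  linear_combination (om * om + Complex.I) * om_sq + Complex.I_mul_I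

theorem om_pow_eight : om ^ 8 = 1 := by
  linear_combination (om ^ 4 - 1) * om_pow_four

theorem om_add_cube : om + Complex.I * om = w := by
  rw [om, w]
  linear_combination (Real.sqrt 2 : ℂ) / 2 * Complex.I_mul_I

/-- The exponent of an element of the cyclic group generated by `a`. -/
def lg (x : Mat) : Fin 8 :=
  if x = a then 1 else if x = a ^ 2 then 2 else if x = a ^ 3 then 3 else if x = a ^ 4 then 4
  else if x = a ^ 5 then 5 else if x = a ^ 6 then 6 else if x = a ^ 7 then 7 else 0

/-- Membership in the cyclic group generated by `a`. -/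
def cycPred (x : Mat) : Bool := decide (x = a ^ (lg x : ℕ))

/-- The cyclic subgroup of order eight. -/
def cyc : Subgroup Mat :=
  subgroupOfPred cycPred (by decide +kernel) (by decide +kernel) (by decide +kernel)

instance : DecidablePred (· ∈ cyc) := fun x => inferInstanceAs (Decidable (cycPred x = true))

theorem lg_mul : ∀ x y : Mat, cycPred x = true → cycPred y = true →
    ((lg (x * y) : ℕ) = ((lg x : ℕ) + (lg y : ℕ)) % 8) := by decide +kernel

theorem lg_one : lg 1 = 0 := by decide +kernel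

theorem card_cyc : (Finset.univ.filter fun x : Mat => x ∈ cyc).card = 8 := by decide +kernel

/-- A faithful linear character of the cyclic subgroup. -/
noncomputable def psi : cyc →* ℂˣ :=
  MonoidHom.toHomUnits
    { toFun := fun x => om ^ (lg (x : Mat) : ℕ)
      map_one' := by rw [Subgroup.coe_one, lg_one]; rfl
      map_mul' := fun x y => by
        rw [Subgroup.coe_mul, lg_mul _ _ x.2 y.2, ← pow_eq_pow_mod _ om_pow_eight, pow_add] }

/-- How often a conjugate of `g` is `a ^ k`. -/
def hits (g : Mat) (k : Fin 8) : ℤ :=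
  ((Finset.univ.filter fun x : Mat => x⁻¹ * g * x = a ^ (k : ℕ)).card : ℤ)

/-- The rational part of the induced character. -/
def indRe : Fin 8 → ℤ := ![6, -6, 0, 0, 0, 0, 0, 0]
/-- The coefficient of `w`. -/
def indIm : Fin 8 → ℤ := ![0, 0, 0, 1, -1, 0, 0, 0]

theorem hits_eq : ∀ g : Mat, hits g 0 - hits g 4 = 8 * indRe (cls g) ∧ hits g 2 = hits g 6 ∧
    hits g 1 - hits g 5 = 8 * indIm (cls g) ∧ hits g 3 - hits g 7 = 8 * indIm (cls g) := by
  decide +kernel

theorem conj_mem_iff : ∀ y : Mat, cycPred y = true ↔ ∃ k : Fin 8, y = a ^ (k : ℕ) := by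
  decide +kernel

theorem lg_pow : ∀ k : Fin 8, lg (a ^ (k : ℕ)) = k := by decide +kernel

theorem indFun_psi_apply (g : Mat) :
    Cfsg.indFun cyc (fun h => (psi h : ℂ)) g = (indRe (cls g) : ℂ) + (indIm (cls g) : ℂ) * w := by
  have hc : Nat.card cyc = 8 := by
    rw [Nat.card_eq_fintype_card, Fintype.card_subtype, card_cyc]
  rw [indFun_def, hc]
  have h1 : ∀ x : Mat, Cfsg.extendByZero cyc (fun h => (psi h : ℂ)) (x⁻¹ * g * x) =
      ∑ k : Fin 8, if x⁻¹ * g * x = a ^ (k : ℕ) then om ^ (k : ℕ) else 0 := by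
    intro x
    rw [extendByZero_eq]
    split_ifs with h
    · obtain ⟨k, hk⟩ := (conj_mem_iff _).1 h
      rw [Finset.sum_eq_single k, if_pos hk]
      · show om ^ (lg (x⁻¹ * g * x) : ℕ) = _
        rw [hk, lg_pow]
      · intro j _ hj
        refine if_neg fun e => hj ?_
        have := (congrArg lg (e.symm.trans hk))
        rwa [lg_pow, lg_pow] at this
      · exact fun h => absurd (Finset.mem_univ _) h
    · refine (Finset.sum_eq_zero fun j _ => if_neg fun e => h ?_).symm
      exact (conj_mem_iff _).2 ⟨j, e⟩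
  simp only [h1]
  rw [Finset.sum_comm]
  have h2 : ∀ k : Fin 8, (∑ x : Mat, if x⁻¹ * g * x = a ^ (k : ℕ) then om ^ (k : ℕ) else 0) =
      (hits g k : ℂ) * om ^ (k : ℕ) := fun k => by
    rw [← Finset.sum_filter, Finset.sum_const, nsmul_eq_mul, hits, Int.cast_natCast]
  simp only [h2, Fin.sum_univ_eight]
  obtain ⟨e0, e2, e1, e3⟩ := hits_eq g
  have c0 : (hits g 0 : ℂ) = hits g 4 + 8 * indRe (cls g) := by
    exact_mod_cast (by linarith : hits g 0 = hits g 4 + 8 * indRe (cls g))
  have c1 : (hits g 1 : ℂ) = hits g 5 + 8 * indIm (cls g) := by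
    exact_mod_cast (by linarith : hits g 1 = hits g 5 + 8 * indIm (cls g))
  have c3 : (hits g 3 : ℂ) = hits g 7 + 8 * indIm (cls g) := by
    exact_mod_cast (by linarith : hits g 3 = hits g 7 + 8 * indIm (cls g))
  rw [c0, c1, c3, e2, show ((0 : Fin 8) : ℕ) = 0 from rfl, show ((1 : Fin 8) : ℕ) = 1 from rfl,
    show ((2 : Fin 8) : ℕ) = 2 from rfl, show ((3 : Fin 8) : ℕ) = 3 from rfl,
    show ((4 : Fin 8) : ℕ) = 4 from rfl, show ((5 : Fin 8) : ℕ) = 5 from rfl,
    show ((6 : Fin 8) : ℕ) = 6 from rfl, show ((7 : Fin 8) : ℕ) = 7 from rfl]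
  have h4 := om_pow_four
  push_cast
  linear_combination ((hits g 4 : ℂ) + hits g 5 * om + hits g 6 * om ^ 2 + hits g 7 * om ^ 3) / 8 * h4
    + (indIm (cls g) : ℂ) * om * om_sq + (indIm (cls g) : ℂ) * om_add_cube

/-- The sign. -/
def sgn : Fin 8 → ℤ := ![1, 1, 1, -1, -1, 1, 1, -1]

theorem sgn_mul : ∀ x y : Mat, sgn (cls (x * y)) = sgn (cls x) * sgn (cls y) := by decide +kernel

theorem isGen_sgn : Cfsg.IsGeneralizedCharacter Mat (fun g => (sgn (cls g) : ℂ)) := by
  let f : Mat →* ℂ :=
    { toFun := fun x => (sgn (cls x) : ℂ)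
      map_one' := by
        rw [show sgn (cls 1) = 1 by decide +kernel]; norm_num
      map_mul' := fun x y => by rw [sgn_mul, Int.cast_mul] }
  exact IsCharacter.isGeneralized (isCharacter_ofHom f.toHomUnits)

/-- `1 + (sign)(π₄ - 1) - (π₈ - π₄)`. -/
def beta : Fin 8 → ℤ := ![0, 8, 0, 2, 2, 2, 0, 0]
/-- `(sign) + (π₄ - 1) - (π₈ - π₄)`. -/
def gamma : Fin 8 → ℤ := ![0, 8, 0, -2, -2, 2, 0, 0]
/-- `1 + π₃ - π₄`. -/
def delta : Fin 8 → ℤ := ![0, 0, 4, 2, 2, 0, 0, 0]
/-- The rational part of `(π₃ - 1) + (π₈ - π₄) - Ind ψ`. -/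
def etaRe : Fin 8 → ℤ := ![0, 4, 2, 0, 0, -2, 0, 0]

theorem tables : ∀ i : Fin 8,
    beta i = 1 + sgn i * ((pFour i : ℤ) - 1) - ((pEight i : ℤ) - pFour i) ∧
    gamma i = sgn i + ((pFour i : ℤ) - 1) - ((pEight i : ℤ) - pFour i) ∧
    delta i = 1 + (pThree i : ℤ) - pFour i ∧
    etaRe i = (pThree i : ℤ) - 1 + ((pEight i : ℤ) - pFour i) - indRe i := by decide

theorem isGen_beta : Cfsg.IsGeneralizedCharacter Mat (fun g => (beta (cls g) : ℂ)) := by
  have h := IsGeneralized.sub (IsGeneralized.add isGeneralized_one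
    (IsGeneralized.mul isGen_sgn (IsGeneralized.sub isGen_four isGeneralized_one)))
    (IsGeneralized.sub isGen_eight isGen_four)
  convert h using 1
  funext g
  simp only [Pi.add_apply, Pi.sub_apply, Pi.mul_apply, (tables (cls g)).1]
  push_cast; ring

theorem isGen_gamma : Cfsg.IsGeneralizedCharacter Mat (fun g => (gamma (cls g) : ℂ)) := by
  have h := IsGeneralized.sub (IsGeneralized.add isGen_sgn
    (IsGeneralized.sub isGen_four isGeneralized_one))
    (IsGeneralized.sub isGen_eight isGen_four)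
  convert h using 1
  funext g
  simp only [Pi.add_apply, Pi.sub_apply, Pi.mul_apply, (tables (cls g)).2.1]
  push_cast; ring

theorem isGen_delta : Cfsg.IsGeneralizedCharacter Mat (fun g => (delta (cls g) : ℂ)) := by
  have h := IsGeneralized.sub (IsGeneralized.add isGeneralized_one isGen_three) isGen_four
  convert h using 1
  funext g
  simp only [Pi.add_apply, Pi.sub_apply, Pi.mul_apply, (tables (cls g)).2.2.1]
  push_cast; ring

theorem isGen_eta :
    Cfsg.IsGeneralizedCharacter Mat (fun g => (etaRe (cls g) : ℂ) - (indIm (cls g) : ℂ) * w) := by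
  have h := IsGeneralized.sub (IsGeneralized.add (IsGeneralized.sub isGen_three isGeneralized_one)
    (IsGeneralized.sub isGen_eight isGen_four))
    (IsGeneralized.indFun (IsCharacter.isGeneralized (isCharacter_ofHom psi)))
  convert h using 1
  funext g
  simp only [Pi.add_apply, Pi.sub_apply, indFun_psi_apply, (tables (cls g)).2.2.2]
  push_cast; ring

theorem isGen_eta' :
    Cfsg.IsGeneralizedCharacter Mat (fun g => (etaRe (cls g) : ℂ) + (indIm (cls g) : ℂ) * w) := by
  have h := IsGeneralized.conj isGen_eta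
  convert h using 1
  funext g
  simp [conj_w]

theorem supported : ∀ i : Fin 8, (i = 0 ∨ i = 6 ∨ i = 7) →
    beta i = 0 ∧ gamma i = 0 ∧ delta i = 0 ∧ etaRe i = 0 ∧ indIm i = 0 := by decide

/-- The products of pairs of involutions. -/
theorem pairs_beta : ∑ v : Mat, beta (cls v) *
    ((Finset.univ.filter fun x : Mat => x ≠ 1 ∧ x * x = 1 ∧ x * v ≠ 1 ∧ x * v * (x * v) = 1).card : ℤ) =
      4 * 48 := by decide +kernel

theorem pairs_gamma : ∑ v : Mat, gamma (cls v) *
    ((Finset.univ.filter fun x : Mat => x ≠ 1 ∧ x * x = 1 ∧ x * v ≠ 1 ∧ x * v * (x * v) = 1).card : ℤ) =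
      4 * 48 := by decide +kernel

end CfsgLib.GLTwoThree
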